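import Mathlib.Data.List.Basic

/-!
# Data for the outer automorphisms (generated)

An element of order eleven on the hundred points, and orbits of the subgroup fixing a coset.
-/

set_option autoImplicit false
set_option maxRecDepth 100000

namespace CfsgLib.HNOut

/-- The point fixed by the element of order eleven. -/
def rF : ℕ := 37

/-- One cycle on the neighbours. -/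
def cycA : List ℕ := [6, 66, 80, 98, 15, 94, 35, 12, 73, 20, 9]

/-- The other cycle on the neighbours. -/
def cycB : List ℕ := [14, 93, 97, 43, 34, 55, 61, 76, 42, 75, 79]

/-- Block words fixing a representative only. -/
def stabBlocks : List (ℕ × List (List ℕ)) := [
  (0, [[3, 2, 0, 2, 3], [3, 1, 3, 2, 3, 0]]),
  (1, [[3, 2, 2, 3, 2, 0, 3, 1, 1], [1, 3, 0, 3, 2, 1, 3, 3, 2, 3], [3, 1, 1, 0, 3, 0]])]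

/-- A representative and a block word leading to each point. -/
def paths : List (ℕ × List ℕ) := [
  (0, []),
  (1, []),
  (1, [0]),
  (1, [0, 0, 0]),
  (1, [2, 0, 2, 0]),
  (0, [2, 2, 0, 0, 2, 0, 0, 2]),
  (0, [2, 0, 0, 0, 2, 0, 0, 2]),
  (1, [0, 0, 0, 0, 0]),
  (0, [0, 2, 0, 0, 0, 2, 0, 0, 2]),
  (1, [0, 0, 2, 0, 2, 0]),
  (1, [0, 2, 2, 2, 0, 0]),
  (1, [0, 0, 0, 0]),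
  (1, [2, 2, 2, 0, 0]),
  (1, [0, 2, 0, 2, 0]),
  (1, [0, 0, 2, 2, 2, 0, 0]),
  (1, [2, 0, 0, 2, 0]),
  (0, [0, 2, 0, 0, 2, 0, 0, 0, 2]),
  (0, [0, 2, 0, 2, 2, 2, 0, 0, 2, 0, 0, 2]),
  (0, [2, 0, 2, 2, 2, 0, 0, 2, 0, 0, 2]),
  (1, [0, 0]),
  (1, [2, 2, 0, 0, 2, 0]),
  (0, [2, 0, 0, 2, 0, 0, 0, 2]),
  (1, [0, 2, 2, 0, 0, 2, 0]),
  (1, [2, 0, 0, 2, 0, 0, 0, 0, 0]),
  (1, [2, 2, 0, 2, 0, 2, 2, 0]),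
  (0, [2, 0, 2, 0, 0, 2, 0, 0, 0, 0, 2]),
  (0, [0, 2, 2, 2, 0, 0, 2, 0, 0, 2]),
  (0, [0, 0, 2, 0, 2, 0, 0, 2]),
  (1, [0, 2]),
  (0, [2, 0, 0, 2, 0, 0, 0, 0, 2]),
  (1, [2, 0]),
  (0, [0, 0, 0, 0, 0, 2]),
  (0, [0, 0, 2]),
  (1, [0, 2, 0, 2, 2, 0]),
  (1, [2, 2, 0, 2, 2, 0]),
  (1, [2, 0, 0, 0, 0, 0]),
  (0, [2, 2, 0, 2, 0, 0, 0, 0, 2]),
  (0, [0, 2, 0, 0, 2, 0, 0, 0, 0, 2]),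
  (1, [0, 0, 2]),
  (1, [2, 0, 0, 0, 2, 2, 0, 0]),
  (0, [0, 0, 0, 0, 2, 0, 0, 2]),
  (0, [0, 2]),
  (1, [0, 2, 2, 2, 2, 0, 0]),
  (1, [0, 0, 2, 0, 2, 2, 0]),
  (1, [0, 2, 2, 0, 0]),
  (1, [2, 0, 2, 2, 2, 0, 0]),
  (1, [0, 0, 2, 2, 0, 0]),
  (1, [2]),
  (0, [2, 0, 2, 0, 0, 0, 0, 2]),
  (1, [2, 0, 0, 2, 0, 2, 2, 0]),
  (1, [2, 2, 2, 0, 2, 2, 0]),
  (0, [2, 2, 2, 0, 0, 2]),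
  (0, [2, 2, 0, 0, 2]),
  (1, [2, 0, 2, 0, 2, 2, 0]),
  (1, [2, 2, 0, 0]),
  (0, [0, 0, 0, 2, 0, 0, 0, 0, 2]),
  (0, [0, 0, 0, 0, 0, 2, 0, 0, 2]),
  (0, [2]),
  (1, [2, 0, 2, 2, 0]),
  (0, [0, 0, 2, 0, 0, 0, 0, 2]),
  (1, [2, 2, 0]),
  (1, [0, 2, 2, 0]),
  (0, [0, 0, 0, 2, 0, 2, 0, 0, 2]),
  (0, [2, 0, 0, 0, 2, 0, 2, 0, 0, 2]),
  (0, [2, 2, 2, 0, 0, 2, 0, 0, 2]),
  (0, [2, 0, 0, 2, 0, 0, 2]),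
  (1, [0, 0, 2, 0, 0, 0, 2, 2, 0, 0]),
  (1, [0, 0, 0, 2, 0]),
  (1, [2, 2, 2, 2, 0, 0]),
  (0, [0, 2, 0, 0, 0, 0, 2]),
  (0, [0, 2, 0, 0, 2]),
  (0, [0, 0, 0, 0, 2]),
  (1, [0, 0, 0, 0, 2, 2, 0, 0]),
  (0, [0, 2, 2, 0, 0, 0, 2]),
  (1, [0, 0, 2, 0, 0, 0, 0, 0]),
  (0, [2, 2, 2, 0, 0, 0, 2]),
  (1, [0, 2, 0, 0]),
  (0, [0, 2, 0, 2, 0, 0, 2]),
  (0, [0, 0, 0, 2, 0, 0, 2]),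
  (1, [2, 0, 0]),
  (0, [2, 0, 0, 0, 2]),
  (1, [0, 2, 0, 0, 0, 0, 0]),
  (1, [0, 0, 0, 2, 2, 0, 0]),
  (0, [0, 0, 2, 0, 0, 2]),
  (0, [2, 2, 0, 0, 0, 2, 0, 0, 2]),
  (0, [0, 0, 0, 2]),
  (1, [0, 0, 0, 2, 0, 2, 2, 0]),
  (0, [2, 2, 0, 0, 2, 0, 0, 0, 0, 2]),
  (0, [2, 0, 0, 2]),
  (1, [0, 2, 0]),
  (0, [2, 0, 2, 0, 0, 2]),
  (0, [2, 2, 2, 0, 2, 0, 0, 0, 0, 2]),
  (0, [2, 2, 2, 2, 0, 0, 2, 0, 0, 2]),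
  (0, [0, 0, 2, 2, 0, 0, 0, 2]),
  (1, [0, 2, 0, 0, 0, 2, 2, 0, 0]),
  (0, [0, 0, 2, 0, 0, 0, 2]),
  (0, [0, 2, 0, 0, 0, 2]),
  (0, [2, 0, 0, 0, 0, 2]),
  (1, [0, 0, 2, 0]),
  (0, [2, 2, 0, 0, 0, 2])]

end CfsgLib.HNOut
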