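import Cfsg.Agent.Lib.HNxyz.Main
import Cfsg.Agent.Lib.HNIndex.ChainData
import Cfsg.Agent.Lib.HNIndex.Fix
import Cfsg.Agent.Lib.M22Sub.HSAut
import Cfsg.Agent.Lib.HNOut.Data

/-!
# Centralisers and automorphisms on the hundred points
-/

set_option autoImplicit false
set_option maxRecDepth 100000
set_option linter.style.haveILetI false

namespace CfsgLib.HNOut

open CfsgLib.Golay CfsgLib.HNxyz CfsgLib.HNIndex

/-- A word for an element of order eleven. -/
def fW : List ℕ := [0, 2, 2, 2, 4, 2, 4]

/-- The image of a point under a word. -/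
noncomputable def app (w : List ℕ) (i : ℕ) : ℕ := PackPerm.getP (codeW w) i

theorem app_spec {w : List ℕ} (hw : ∀ g ∈ w, g < 6) (i : Fin 100) :
    (evalW (elt px py pz) w i).val = app w i.val := by
  obtain ⟨e1, e2⟩ := codeW_spec hw
  rw [← e2]
  exact pmOf_apply e1 i

theorem fW_lt : ∀ g ∈ fW, g < 6 := by decide

/-- The permutation of order eleven. -/
noncomputable def fP : Equiv.Perm (Fin 100) := evalW (elt px py pz) fW

theorem f_code : (List.range 11).foldr (fun _ A => pops.mul (codeW fW) A) pops.one = pops.one ∧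
    ((List.range 100).all fun i => Nat.beq i rF == Nat.beq (app fW i) i) = true ∧
    ((List.range 11).all fun k =>
      Nat.beq (app fW (cycA.getD k 0)) (cycA.getD ((k + 1) % 11) 0) &&
      Nat.beq (app fW (cycB.getD k 0)) (cycB.getD ((k + 1) % 11) 0)) = true := by
  decide +kernel

theorem nb_checks : ((List.range 100).all fun i => HS.adjN rF i == (cycA ++ cycB).contains i) = true ∧
    ((List.range 11).all fun k => (Nat.beq k 0 || !Nat.beq (cycA.getD (2 * k % 11) 0) (cycA.getD 0 0))
      && (Nat.beq k 0 || !Nat.beq (cycB.getD k 0) (cycB.getD 0 0))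
      && !Nat.beq (cycA.getD k 0) (cycB.getD 0 0)) = true ∧
    cycA.length = 11 ∧ cycB.length = 11 ∧ cycA.all (Nat.blt · 100) = true ∧
    cycB.all (Nat.blt · 100) = true ∧ rF < 100 := by
  decide +kernel

/-- A vertex outside the fixed point and its neighbours. -/
def far (q : ℕ) : Bool := !Nat.beq q rF && !(cycA ++ cycB).contains q

theorem far_unique : ((List.range 100).all fun q => (List.range 100).all fun q' =>
    !far q || !far q' || Nat.beq q q' ||
      (cycA ++ cycB).any fun x => HS.adjN q x != HS.adjN q' x) = true := by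
  decide +kernel

theorem no_swap : ((List.range 11).all fun i => (List.range 100).all fun q =>
    (List.range 11).any fun k => HS.adjN q (cycB.getD ((k + i) % 11) 0) != HS.adjN 0 (cycA.getD k 0) ||
      HS.adjN q (cycA.getD k 0) != HS.adjN 0 (cycB.getD ((k + i) % 11) 0)) = true := by
  decide +kernel

theorem fP_pow : fP ^ 11 = 1 := by
  obtain ⟨e1, e2⟩ := codeW_spec fW_lt
  have h : ∀ n, pops.ok ((List.range n).foldr (fun _ A => pops.mul (codeW fW) A) pops.one) = true ∧
      pmOf ((List.range n).foldr (fun _ A => pops.mul (codeW fW) A) pops.one) = fP ^ n := by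
    intro n
    have key : ∀ l : List ℕ, pops.ok (l.foldr (fun _ A => pops.mul (codeW fW) A) pops.one) = true ∧
        pmOf (l.foldr (fun _ A => pops.mul (codeW fW) A) pops.one) = fP ^ l.length := by
      intro l
      induction l with
      | nil => exact ⟨pops.ok_one, by simpa using pmOf_one⟩
      | cons a l ih =>
        refine ⟨pops.ok_mul _ _ e1 ih.1, ?_⟩
        rw [List.foldr_cons, pmOf_mul e1 ih.1, ih.2, e2, List.length_cons, pow_succ', fP]
    simpa using key (List.range n)
  rw [← (h 11).2, f_code.1, pmOf_one]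

theorem fP_fix {i : Fin 100} : fP i = i ↔ i.val = rF := by
  have h := List.all_eq_true.1 f_code.2.1 i.val (List.mem_range.2 i.2)
  rw [beq_iff_eq, ← app_spec fW_lt] at h
  constructor
  · intro e
    rw [show (evalW (elt px py pz) fW i) = i from e] at h
    simpa using h
  · intro e
    rw [e] at h
    refine Fin.ext ?_
    show (evalW (elt px py pz) fW i).val = i.val
    rw [e]
    simpa using h.symm

theorem fP_ne : fP ≠ 1 := fun h => by
  have := (fP_fix (i := ⟨if rF = 0 then 1 else 0, by split <;> norm_num⟩)).1 (by rw [h]; rfl)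
  simp [rF] at this

/-- A point of the first cycle. -/
def pA (k : ℕ) : Fin 100 := Fin.ofNat 100 (cycA.getD (k % 11) 0)

/-- A point of the second cycle. -/
def pB (k : ℕ) : Fin 100 := Fin.ofNat 100 (cycB.getD (k % 11) 0)

theorem pA_val (k : ℕ) : (pA k).val = cycA.getD (k % 11) 0 := by
  have h := nb_checks.2.2.2.2.1
  rw [List.all_eq_true] at h
  have hl : k % 11 < cycA.length := by rw [nb_checks.2.2.1]; omega
  have := h _ (List.getElem_mem hl)
  rw [Nat.blt_eq, ← List.getD_eq_getElem _ 0 hl] at this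
  exact Nat.mod_eq_of_lt this

theorem pB_val (k : ℕ) : (pB k).val = cycB.getD (k % 11) 0 := by
  have h := nb_checks.2.2.2.2.2.1
  rw [List.all_eq_true] at h
  have hl : k % 11 < cycB.length := by rw [nb_checks.2.2.2.1]; omega
  have := h _ (List.getElem_mem hl)
  rw [Nat.blt_eq, ← List.getD_eq_getElem _ 0 hl] at this
  exact Nat.mod_eq_of_lt this

theorem fP_cyc (k : ℕ) : fP (pA k) = pA (k + 1) ∧ fP (pB k) = pB (k + 1) := by
  have h := List.all_eq_true.1 f_code.2.2 (k % 11) (List.mem_range.2 (Nat.mod_lt _ (by norm_num)))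
  simp only [Bool.and_eq_true, Nat.beq_eq] at h
  constructor <;> refine Fin.ext ?_
  · rw [show fP (pA k) = evalW (elt px py pz) fW (pA k) from rfl, app_spec fW_lt, pA_val, pA_val, h.1,
      Nat.mod_add_mod]
  · rw [show fP (pB k) = evalW (elt px py pz) fW (pB k) from rfl, app_spec fW_lt, pB_val, pB_val, h.2,
      Nat.mod_add_mod]

/-- An involution of the graph commuting with the element of order eleven is trivial. -/
theorem eleven_centraliser {m : Equiv.Perm (Fin 100)} (hg : m ∈ HS.graphAut)
    (hc : m * fP = fP * m) (h2 : m * m = 1) : m = 1 := by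
  have hcm : ∀ i, m (fP i) = fP (m i) := fun i => Equiv.ext_iff.1 hc i
  have hmm : ∀ i, m (m i) = i := fun i => Equiv.ext_iff.1 h2 i
  set r : Fin 100 := ⟨rF, nb_checks.2.2.2.2.2.2⟩
  have hr : m r = r := Fin.ext (fP_fix.1 (by rw [← hcm, fP_fix.2 rfl]))
  have hadj := HS.mem_graphAut.1 hg
  have hnb : ∀ i : Fin 100, HS.adjN rF i.val = (cycA ++ cycB).contains i.val := fun i =>
    beq_iff_eq.1 (List.all_eq_true.1 nb_checks.1 i.val (List.mem_range.2 i.2))
  have hmem : ∀ i : Fin 100, (cycA ++ cycB).contains i.val = true →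
      ∃ k < 11, i = pA k ∨ i = pB k := by
    intro i hi
    rcases List.mem_append.1 (List.contains_iff_mem.1 hi) with h | h
    · obtain ⟨k, hk, e⟩ := List.getElem_of_mem h
      rw [nb_checks.2.2.1] at hk
      exact ⟨k, hk, Or.inl (Fin.ext (by rw [pA_val, Nat.mod_eq_of_lt hk,
        List.getD_eq_getElem _ 0 (by rw [nb_checks.2.2.1]; exact hk), e]))⟩
    · obtain ⟨k, hk, e⟩ := List.getElem_of_mem h
      rw [nb_checks.2.2.2.1] at hk
      exact ⟨k, hk, Or.inr (Fin.ext (by rw [pB_val, Nat.mod_eq_of_lt hk,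
        List.getD_eq_getElem _ 0 (by rw [nb_checks.2.2.2.1]; exact hk), e]))⟩
  have hpn : ∀ k, (cycA ++ cycB).contains (pA k).val = true ∧
      (cycA ++ cycB).contains (pB k).val = true := by
    intro k
    constructor
    · rw [pA_val, List.getD_eq_getElem _ 0 (by rw [nb_checks.2.2.1]; omega)]
      exact List.contains_iff_mem.2 (List.mem_append_left _ (List.getElem_mem _))
    · rw [pB_val, List.getD_eq_getElem _ 0 (by rw [nb_checks.2.2.2.1]; omega)]
      exact List.contains_iff_mem.2 (List.mem_append_right _ (List.getElem_mem _))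
  have himg : ∀ i : Fin 100, (cycA ++ cycB).contains i.val = true →
      ∃ k < 11, m i = pA k ∨ m i = pB k := by
    intro i hi
    refine hmem _ ?_
    have e := hadj r i
    rw [hr] at e
    rw [← hnb, ← hi, ← hnb]
    exact e
  have iter : ∀ {p q : ℕ → Fin 100} {i : ℕ}, (∀ k, fP (p k) = p (k + 1)) →
      (∀ k, fP (q k) = q (k + 1)) → m (p 0) = q i → ∀ k, m (p k) = q (k + i) := by
    intro p q i hp hq h k
    induction k with
    | zero => rw [h, Nat.zero_add]
    | succ k ih => rw [← hp, hcm, ih, hq, Nat.add_right_comm]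
  have chk := fun k (hk : k < 11) => List.all_eq_true.1 nb_checks.2.1 k (List.mem_range.2 hk)
  simp only [Bool.and_eq_true, Bool.or_eq_true, Nat.beq_eq, Bool.not_eq_true'] at chk
  obtain ⟨i, hi, hA⟩ := himg (pA 0) (hpn 0).1
  rcases hA with hA | hA
  · have hAk := iter (fun k => (fP_cyc k).1) (fun k => (fP_cyc k).1) hA
    have e2 := hAk i
    rw [← hA, hmm] at e2
    have i0 : i = 0 := by
      rcases (chk i hi).1.1 with h | h
      · exact h
      · exfalso
        have := congrArg Fin.val e2
        rw [pA_val, pA_val, show (i + i) % 11 = 2 * i % 11 from by omega, Nat.zero_mod] at this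
        rw [this] at h
        simp at h
    subst i0
    obtain ⟨j, hj, hB⟩ := himg (pB 0) (hpn 0).2
    rcases hB with hB | hB
    · exfalso
      have e := hAk j
      rw [Nat.add_zero] at e
      have e3 := m.injective (e.trans hB.symm)
      have := congrArg Fin.val e3
      rw [pA_val, pB_val, Nat.mod_eq_of_lt hj, Nat.zero_mod] at this
      have h := (chk j hj).2
      rw [this] at h
      simp at h
    · have hBk := iter (fun k => (fP_cyc k).2) (fun k => (fP_cyc k).2) hB
      have e2 := congrArg m (hBk 0)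
      rw [hmm, Nat.zero_add, hBk j] at e2
      have j0 : j = 0 := by
        have hd := congrArg Fin.val e2
        rw [pB_val, pB_val] at hd
        have : ∀ a : Fin 11, cycB.getD (0 % 11) 0 = cycB.getD ((a.val + a.val) % 11) 0 → a.val = 0 := by
          decide +kernel
        exact this ⟨j, hj⟩ hd
      subst j0
      have hfixn : ∀ i : Fin 100, (cycA ++ cycB).contains i.val = true → m i = i := by
        intro i hi
        obtain ⟨k, -, rfl | rfl⟩ := hmem i hi
        · exact hAk k
        · exact hBk k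
      refine Equiv.ext fun q => ?_
      rw [Equiv.Perm.one_apply]
      by_cases hq : (cycA ++ cycB).contains q.val = true
      · exact hfixn q hq
      by_cases hqr : q.val = rF
      · rw [show q = r from Fin.ext hqr, hr]
      have hfar : ∀ p : Fin 100, p.val ≠ rF → ¬ (cycA ++ cycB).contains p.val = true →
          far p.val = true := by
        intro p h1 h2
        simp only [far, Bool.and_eq_true, Bool.not_eq_true', Bool.not_eq_true] at h2 ⊢
        refine ⟨?_, h2⟩
        rw [Bool.eq_false_iff]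
        exact fun e => h1 (Nat.eq_of_beq_eq_true e)
      have hm1 : (m q).val ≠ rF := fun e => hqr (by
        have : m q = m r := by rw [hr]; exact Fin.ext e
        exact congrArg Fin.val (m.injective this))
      have hm2 : ¬ (cycA ++ cycB).contains (m q).val = true := fun e => hq (by
        have := hfixn _ e
        rw [hmm] at this
        rwa [← this] at e)
      have hu := List.all_eq_true.1 (List.all_eq_true.1 far_unique (m q).val (List.mem_range.2 (m q).2))
        q.val (List.mem_range.2 q.2)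
      simp only [hfar q hqr hq, hfar _ hm1 hm2, Bool.not_true, Bool.false_or, Bool.or_eq_true,
        List.any_eq_true, bne_iff_ne] at hu
      rcases hu with hu | ⟨x, hx, hne⟩
      · exact Fin.ext (Nat.eq_of_beq_eq_true hu)
      · exfalso
        have hx100 : x < 100 := by
          have hA := nb_checks.2.2.2.2.1
          have hB := nb_checks.2.2.2.2.2.1
          rw [List.all_eq_true] at hA hB
          rcases List.mem_append.1 hx with h | h
          exacts [Nat.blt_eq.mp (hA x h), Nat.blt_eq.mp (hB x h)]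
        have e := hadj q ⟨x, hx100⟩
        rw [hfixn ⟨x, hx100⟩ (List.contains_iff_mem.2 hx)] at e
        exact hne e
  · exfalso
    have hAk := iter (fun k => (fP_cyc k).1) (fun k => (fP_cyc k).2) hA
    have h := List.all_eq_true.1 (List.all_eq_true.1 no_swap i (List.mem_range.2 hi))
      (m ⟨0, by norm_num⟩).val (List.mem_range.2 (m _).2)
    simp only [List.any_eq_true, Bool.or_eq_true, bne_iff_ne] at h
    obtain ⟨k, hk, h⟩ := h
    have hk' := List.mem_range.1 hk
    have ea : cycA.getD k 0 = (pA k).val := by rw [pA_val, Nat.mod_eq_of_lt hk']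
    have eb : cycB.getD ((k + i) % 11) 0 = (pB (k + i)).val := (pB_val _).symm
    rw [ea, eb] at h
    rcases h with h | h
    · exact h (by rw [← hAk k]; exact hadj _ _)
    · refine h ?_
      have e := hadj ⟨0, by norm_num⟩ (pB (k + i))
      rw [← hAk k, hmm] at e
      rw [← hAk k]
      exact e

/-- The block of a letter. -/
noncomputable def blockP (k : ℕ) : Equiv.Perm (Fin 100) := evalW (elt px py pz) (cBlock k)

theorem cWord_lt (s : List ℕ) : ∀ g ∈ cWord s, g < 6 := by
  intro g hg
  obtain ⟨l, hl, hg⟩ := List.mem_flatten.1 hg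
  obtain ⟨k, -, rfl⟩ := List.mem_map.1 hl
  have : ∀ k, ∀ g ∈ cBlock k, g < 6 := by
    intro k g hg
    rcases k with _ | _ | _ | k <;> simp [cBlock] at hg <;> omega
  exact this k g hg

theorem orbit_checks : (stabBlocks.all fun e => (List.range 100).all fun i =>
      Nat.beq i e.1 || e.2.any fun w => !Nat.beq (app (cWord w) i) i) = true ∧
    (stabBlocks.all fun e => e.2.all fun w => Nat.beq (app (cWord w) e.1) e.1) = true ∧
    ((List.range 100).all fun q => (stabBlocks.map Prod.fst).contains (paths.getD q (0, [])).1 &&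
      Nat.beq (app (cWord (paths.getD q (0, [])).2) (paths.getD q (0, [])).1) q) = true ∧
    (stabBlocks.all fun e => Nat.blt e.1 100) = true := by
  decide +kernel

/-- A permutation commuting with y and its conjugate by x is trivial. -/
theorem u_centraliser {c : Equiv.Perm (Fin 100)} (hy : c * py = py * c)
    (hv : c * (px⁻¹ * py * px) = (px⁻¹ * py * px) * c) : c = 1 := by
  have hblock : ∀ k, Commute c (evalW (elt px py pz) (cBlock k)) := by
    have e : Commute c py := hy
    have e' : Commute c (px⁻¹ * py * px) := hv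
    intro k
    rcases k with _ | _ | _ | k
    · simpa [cBlock, evalW, elt] using e
    · simpa [cBlock, evalW, elt] using e.inv_right
    · simpa [cBlock, evalW, elt, mul_assoc] using e'
    · simpa [cBlock, evalW, elt, mul_assoc] using e'.inv_right
  have hword : ∀ s : List ℕ, Commute c (evalW (elt px py pz) (cWord s)) := by
    intro s
    induction s with
    | nil => exact Commute.one_right c
    | cons k s ih =>
      rw [show cWord (k :: s) = cBlock k ++ cWord s from rfl, evalW, List.map_append, List.prod_append]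
      exact (hblock k).mul_right ih
  obtain ⟨hu, hfix, hpath, hlt⟩ := orbit_checks
  simp only [List.all_eq_true, Bool.and_eq_true, Bool.or_eq_true, List.any_eq_true,
    Bool.not_eq_true', Nat.beq_eq, Nat.blt_eq, List.mem_range] at hu hfix hpath hlt
  have hrep : ∀ e ∈ stabBlocks, ∀ r : Fin 100, r.val = e.1 → c r = r := by
    intro e he r hr
    refine Fin.ext ?_
    rcases hu e he (c r).val (c r).2 with h | ⟨w, hw, h⟩
    · rw [h, hr]
    · exfalso
      have hc : evalW (elt px py pz) (cWord w) (c r) = c r := by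
        rw [← Equiv.Perm.mul_apply, ← (hword w).eq, Equiv.Perm.mul_apply]
        congr 1
        exact Fin.ext (by rw [app_spec (cWord_lt w), hr, hfix e he w hw])
      have := congrArg Fin.val hc
      rw [app_spec (cWord_lt w)] at this
      rw [this] at h
      simp at h
  refine Equiv.ext fun q => ?_
  obtain ⟨hmem, hp⟩ := hpath q.val q.2
  obtain ⟨e, he, he1⟩ := List.mem_map.1 (List.contains_iff_mem.1 hmem)
  set r : Fin 100 := ⟨e.1, hlt e he⟩
  have hq : evalW (elt px py pz) (cWord (paths.getD q.val (0, [])).2) r = q :=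
    Fin.ext (by rw [app_spec (cWord_lt _)]; show app _ e.1 = _; rw [he1, hp])
  rw [← hq, ← Equiv.Perm.mul_apply, (hword _).eq, Equiv.Perm.mul_apply, hrep e he r rfl]
  rfl

/-- Every automorphism of the group of the graph is inner. -/
theorem aut_inner (β : HS.graphAut ≃* HS.graphAut) :
    ∃ a : HS.graphAut, ∀ g, β g = a * g * a⁻¹ := by
  haveI := HS.hs_simple
  have hle : HS.hsGroup ≤ HS.graphAut := fun g hg => (HS.mem_hsGroup.1 hg).1
  set K : Subgroup HS.graphAut := HS.hsGroup.subgroupOf HS.graphAut with hK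
  have hcK : Nat.card K = 44352000 :=
    (Nat.card_congr (Subgroup.subgroupOfEquivOfLe hle).toEquiv).trans HS.card_hsGroup
  have hidx : K.index = 2 := by
    have h := K.card_mul_index
    rw [hcK, HS.card_graphAut] at h
    omega
  haveI hKn : K.Normal := Subgroup.normal_of_index_eq_two hidx
  haveI : IsSimpleGroup K :=
    (Subgroup.subgroupOfEquivOfLe hle).isSimpleGroup
  set L : Subgroup HS.graphAut := K.map β.toMonoidHom with hL
  haveI : L.Normal := Subgroup.Normal.map hKn _ β.surjective
  have hcL : Nat.card L = 44352000 :=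
    (Nat.card_congr (K.equivMapOfInjective _ β.injective).toEquiv).symm.trans hcK
  have hLK : L = K := by
    rcases IsSimpleGroup.eq_bot_or_eq_top_of_normal (L.subgroupOf K) inferInstance with h | h
    · exfalso
      have hdis : Disjoint L K := Subgroup.subgroupOf_eq_bot.1 h
      have hinj : Function.Injective ((QuotientGroup.mk' K).comp L.subtype) := by
        refine (injective_iff_map_eq_one _).2 fun l hl => Subtype.ext ?_
        exact (Subgroup.mem_bot).1 (hdis.le_bot ⟨l.2, (QuotientGroup.eq_one_iff _).1 hl⟩)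
      haveI : Finite (HS.graphAut ⧸ K) := inferInstance
      have := Nat.card_le_card_of_injective _ hinj
      rw [hcL, ← Subgroup.index_eq_card, hidx] at this
      omega
    · exact (Subgroup.eq_of_le_of_card_ge (Subgroup.subgroupOf_eq_top.1 h) (by rw [hcK, hcL])).symm
  have hmem : ∀ g : HS.hsGroup, (β ⟨g.1, hle g.2⟩).1 ∈ HS.hsGroup := fun g => by
    have : β ⟨g.1, hle g.2⟩ ∈ K := hLK ▸ ⟨_, g.2, rfl⟩
    exact this
  let φ0 : HS.hsGroup →* HS.hsGroup :=
    MonoidHom.mk' (fun g => ⟨(β ⟨g.1, hle g.2⟩).1, hmem g⟩) fun g h => Subtype.ext (by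
      show (β ⟨g.1 * h.1, _⟩).1 = (β ⟨g.1, _⟩).1 * (β ⟨h.1, _⟩).1
      exact congrArg Subtype.val (map_mul β ⟨g.1, hle g.2⟩ ⟨h.1, hle h.2⟩))
  have hφ : Function.Bijective φ0 := Finite.injective_iff_bijective.1 fun g h e => Subtype.ext (by
    have e' : β ⟨g.1, hle g.2⟩ = β ⟨h.1, hle h.2⟩ := Subtype.ext (congrArg Subtype.val e :)
    exact (congrArg Subtype.val (β.injective e') :))
  obtain ⟨a, ha⟩ := CfsgLib.M22Sub.graphConj_bijective.2 (MulEquiv.ofBijective φ0 hφ)
  have haK : ∀ g : HS.hsGroup, (β ⟨g.1, hle g.2⟩).1 = a.1 * g.1 * a.1⁻¹ := fun g =>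
    (congrArg Subtype.val (MulEquiv.ext_iff.1 ha g)).symm
  refine ⟨a, fun h => ?_⟩
  have key : ∀ g : HS.hsGroup, ((β h)⁻¹.1 * (a * h * a⁻¹).1) * g.1 =
      g.1 * ((β h)⁻¹.1 * (a * h * a⁻¹).1) := by
    intro g
    obtain ⟨g', rfl⟩ := hφ.2 g
    have hg' : (φ0 g').1 = a.1 * g'.1 * a.1⁻¹ := haK g'
    let g1 : HS.graphAut := ⟨g'.1, hle g'.2⟩
    have hc : h * g1 * h⁻¹ ∈ K := hKn.conj_mem _ g'.2 h
    have e2 := haK ⟨(h * g1 * h⁻¹).1, hc⟩
    have e3 : (β (h * g1 * h⁻¹)).1 = (β h).1 * (φ0 g').1 * (β h).1⁻¹ := by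
      rw [map_mul, map_mul, map_inv]; rfl
    rw [show (⟨(⟨(h * g1 * h⁻¹).1, hc⟩ : HS.hsGroup).1, hle hc⟩ : HS.graphAut) = h * g1 * h⁻¹ from rfl,
      e3] at e2
    show ((β h).1⁻¹ * (a.1 * h.1 * a.1⁻¹)) * (φ0 g').1 = (φ0 g').1 * ((β h).1⁻¹ * (a.1 * h.1 * a.1⁻¹))
    generalize (φ0 g').1 = u at hg' e2
    generalize (β h).1 = b at e2
    subst hg'
    have e4 : b * (a.1 * g'.1 * a.1⁻¹) * b⁻¹ = a.1 * (h.1 * g'.1 * h.1⁻¹) * a.1⁻¹ := e2
    calc b⁻¹ * (a.1 * h.1 * a.1⁻¹) * (a.1 * g'.1 * a.1⁻¹)
        = b⁻¹ * (a.1 * (h.1 * g'.1 * h.1⁻¹) * a.1⁻¹) * (a.1 * h.1 * a.1⁻¹) := by group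
      _ = b⁻¹ * (b * (a.1 * g'.1 * a.1⁻¹) * b⁻¹) * (a.1 * h.1 * a.1⁻¹) := by rw [e4]
      _ = a.1 * g'.1 * a.1⁻¹ * (b⁻¹ * (a.1 * h.1 * a.1⁻¹)) := by group
  have := CfsgLib.M22Sub.centraliser_trivial key
  refine Subtype.ext ?_
  exact inv_mul_eq_one.1 this

end CfsgLib.HNOut
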