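import Cfsg.Agent.Lib.HNOut.Point
import Cfsg.Agent.Lib.MathieuOut.Abstract

/-!
# Automorphisms fix the involution up to conjugation

An element of order eleven fixes one coset only, so its centraliser is in the subgroup, and there
the square of x is the only involution commuting with it.
-/

set_option autoImplicit false
set_option maxRecDepth 100000
set_option linter.style.haveILetI false

namespace CfsgLib.HNOut

open CfsgLib.Golay CfsgLib.HNxyz CfsgLib.HNIndex

theorem mS_sq : mS * mS = 1 := by
  have := pow_four (m_rels (h := hn_xyz) : XYZRels (mA gx gy gz) (mB gx gy gz) (mC gx gy gz))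
  rw [← mul_assoc]
  exact this

theorem gs_sq : gs * gs = 1 := by
  rw [← prH_mS, ← map_mul, mS_sq, map_one]

theorem gs_inv : gs⁻¹ = gs := inv_eq_of_mul_eq_one_right gs_sq

theorem phH_word (w : List ℕ) : phH (mW gx gy gz w) = evalW (elt px py pz) w :=
  map_evalW phH _ _ _ w

/-- An element of order eleven of the group of triples. -/
noncomputable def mF : Mh := mW gx gy gz fW ^ 2

theorem phH_mF : phH mF = fP ^ 2 := by
  rw [mF, map_pow, phH_word]; rfl

theorem mF_order : orderOf mF = 11 := by
  haveI : Fact (Nat.Prime 11) := ⟨by norm_num⟩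
  refine orderOf_eq_prime ?_ fun h => ?_
  · rw [mF, ← pow_mul, mul_comm, pow_mul]
    have hk : phH (mW gx gy gz fW ^ 11) = 1 := by rw [map_pow, phH_word]; exact fP_pow
    rcases phH_ker hk with e | e <;> rw [e]
    · exact one_pow 2
    · rw [pow_two]; exact mS_sq
  · refine fP_ne ?_
    have e : fP ^ 2 = 1 := by rw [← phH_mF, h, map_one]
    calc fP = fP ^ 11 * ((fP ^ 2) ^ 5)⁻¹ := by group
      _ = 1 := by rw [fP_pow, e]; group

/-- The only involution of the subgroup commuting with the element of order eleven. -/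
theorem only_involution {n : Mh} (hc : n * mF = mF * n) (h2 : n * n = 1) (hne : n ≠ 1) : n = mS := by
  have hg : phH n ∈ HS.graphAut := by
    rw [← DH.range_eq]
    exact ⟨n, rfl⟩
  have h6 : fP = (fP ^ 2) ^ 6 := by
    calc fP = fP ^ 11 * fP := by rw [fP_pow, one_mul]
      _ = (fP ^ 2) ^ 6 := by group
  have hcom : Commute (phH n) (fP ^ 2) := by
    rw [← phH_mF]
    exact (show Commute n mF from hc).map phH
  have hcf : phH n * fP = fP * phH n := by
    rw [h6]
    exact (hcom.pow_right 6).eq
  rcases phH_ker (eleven_centraliser hg hcf (by rw [← map_mul, h2, map_one])) with h | h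
  · exact absurd h hne
  · exact h

/-- Up to conjugation an automorphism fixes the involution. -/
theorem exists_fix_gs (α : MulAut Gp) : ∃ g : Gp, (MulAut.conj g * α) gs = gs := by
  haveI := hn_finite
  haveI : Fact (Nat.Prime 11) := ⟨by norm_num⟩
  have hof : orderOf (prH mF) = 11 := by rw [orderOf_injective prH prH_inj, mF_order]
  obtain ⟨g, k, hk, hg⟩ := MathieuOut.exists_conj_zpowers
    (show ¬ 11 ^ 2 ∣ Nat.card Gp by rw [card_Gp]; norm_num) hof
    (show orderOf (α (prH mF)) = 11 by rw [MulEquiv.orderOf_eq, hof])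
  refine ⟨g, ?_⟩
  set β := MulAut.conj g * α with hβ
  have hβf : β (prH mF) = prH mF ^ k := hg
  have hcom : Commute (β gs) (prH mF) := by
    have h1 : Commute (β gs) (prH mF ^ k) := by
      rw [← hβf]
      exact (gs_comm (prH_mem mF)).map β.toMonoidHom
    have hcop : Nat.Coprime k (orderOf (prH mF)) := by
      rw [hof]; exact ((Nat.Prime.coprime_iff_not_dvd (by norm_num)).2 hk).symm
    obtain ⟨j, hj⟩ := exists_pow_eq_self_of_coprime hcop
    rw [← hj]
    exact h1.pow_right j
  have hfix : β gs • p0 = p0 := by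
    refine eleven_fix mF_order ?_
    rw [← mul_smul, ← hcom.eq, mul_smul, smul_p0.2 (prH_mem mF)]
  obtain ⟨n, hn⟩ := exists_pre (smul_p0.1 hfix)
  have hnc : n * mF = mF * n := prH_inj (by rw [map_mul, map_mul, hn]; exact hcom.eq)
  have hn2 : n * n = 1 := prH_inj (by rw [map_mul, hn, ← map_mul, gs_sq, map_one, map_one])
  have hne : n ≠ 1 := fun e => gs_ne (β.injective (by rw [← hn, e, map_one, map_one]))
  rw [← hn, only_involution hnc hn2 hne, prH_mS]

end CfsgLib.HNOut
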