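import Cfsg.Agent.Lib.HNOut.Involution

/-!
# Automorphisms fixing the involution

Such an automorphism preserves the subgroup, where it is conjugation followed by a central sign.
-/

set_option autoImplicit false
set_option maxRecDepth 100000
set_option linter.style.haveILetI false

namespace CfsgLib.HNOut

open CfsgLib.Golay CfsgLib.HNxyz CfsgLib.HNIndex
open scoped commutatorElement

theorem mem_of_fix {δ : MulAut Gp} (h : δ gs = gs) {g : Gp} (hg : g ∈ hnSub) : δ g ∈ hnSub :=
  gs_centraliser (by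
    conv_lhs => rw [← h]
    conv_rhs => rw [← h]
    rw [← map_mul, ← map_mul, (gs_comm hg).eq])

/-- An automorphism of the group of triples induced by one fixing the involution. -/
theorem exists_restrict {δ : MulAut Gp} (h : δ gs = gs) :
    ∃ γ : Mh →* Mh, Function.Bijective γ ∧ ∀ m, prH (γ m) = δ (prH m) := by
  haveI := m_finite (a := gx) (b := gy) (c := gz) hn_xyz
  choose f hf using fun m : Mh => exists_pre (mem_of_fix h (prH_mem m))
  refine ⟨MonoidHom.mk' f fun m n => prH_inj ?_, Finite.injective_iff_bijective.1 ?_, hf⟩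
  · rw [hf, map_mul, map_mul, map_mul, hf, hf]
  · intro m n e
    refine prH_inj (δ.injective ?_)
    rw [← hf, ← hf]
    exact congrArg prH (e : f m = f n)

/-- The map onto the automorphism group of the graph. -/
noncomputable def phG : Mh →* HS.graphAut :=
  phH.codRestrict HS.graphAut fun m => DH.range_eq ▸ ⟨m, rfl⟩

theorem phG_ker {m : Mh} : phG m = 1 ↔ phH m = 1 :=
  ⟨fun h => congrArg Subtype.val h, fun h => Subtype.ext h⟩

theorem phG_surjective : Function.Surjective phG := by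
  rintro ⟨g, hg⟩
  rw [← DH.range_eq] at hg
  obtain ⟨m, hm⟩ := hg
  exact ⟨m, Subtype.ext hm⟩

theorem phH_mS : phH mS = 1 := DH.ker_eq.2

/-- Up to an inner automorphism such an automorphism is the identity modulo the centre. -/
theorem exists_mod_centre {γ : Mh →* Mh} (hγ : Function.Bijective γ) (hs : γ mS = mS) :
    ∃ q : Mh, ∀ m, q⁻¹ * γ m * q = m ∨ q⁻¹ * γ m * q = m * mS := by
  have hle : phG.ker ≤ (phG.comp γ).ker := by
    intro m hm
    rw [MonoidHom.mem_ker, MonoidHom.comp_apply]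
    rcases phH_ker (phG_ker.1 hm) with e | e <;> rw [e]
    · rw [map_one, map_one]
    · rw [hs]; exact phG_ker.2 phH_mS
  set β0 := MonoidHom.liftOfSurjective phG phG_surjective ⟨phG.comp γ, hle⟩ with hβ0
  have hβ : ∀ m, β0 (phG m) = phG (γ m) := fun m =>
    MonoidHom.liftOfRightInverse_comp_apply phG _ _ ⟨phG.comp γ, hle⟩ m
  have hsur : Function.Surjective β0 := fun g => by
    obtain ⟨m, rfl⟩ := phG_surjective g
    obtain ⟨n, rfl⟩ := hγ.2 m
    exact ⟨phG n, hβ n⟩
  obtain ⟨a, ha⟩ := aut_inner (MulEquiv.ofBijective β0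
    ⟨Finite.injective_iff_surjective.2 hsur, hsur⟩)
  obtain ⟨q, rfl⟩ := phG_surjective a
  refine ⟨q, fun m => ?_⟩
  have e : phG (γ m) = phG q * phG m * (phG q)⁻¹ := (hβ m).symm.trans (ha (phG m))
  have e1 : phG (m⁻¹ * (q⁻¹ * γ m * q)) = 1 := by
    rw [map_mul, map_mul, map_mul, map_inv, map_inv, e]
    group
  rcases phH_ker (phG_ker.1 e1) with h | h
  · exact Or.inl (inv_mul_eq_one.1 h).symm
  · exact Or.inr (inv_mul_eq_iff_eq_mul.1 h)

theorem comm_central {Mm : Type*} [Group Mm] {u v i j : Mm} (hi : ∀ w, Commute i w)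
    (hj : ∀ w, Commute j w) : ⁅u * i, v * j⁆ = ⁅u, v⁆ := by
  simp only [commutatorElement_def, mul_inv_rev]
  calc u * i * (v * j) * (i⁻¹ * u⁻¹) * (j⁻¹ * v⁻¹)
      = u * (i * (v * j) * i⁻¹) * u⁻¹ * j⁻¹ * v⁻¹ := by group
    _ = u * (v * j) * u⁻¹ * j⁻¹ * v⁻¹ := by rw [(hi (v * j)).eq, mul_inv_cancel_right]
    _ = u * v * (j * u⁻¹ * j⁻¹) * v⁻¹ := by group
    _ = u * v * u⁻¹ * v⁻¹ := by rw [(hj u⁻¹).eq, mul_inv_cancel_right]

/-- An automorphism fixing the involution can be normalised on x, y and z. -/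
theorem exists_normalised {δ : MulAut Gp} (h : δ gs = gs) : ∃ g : Gp,
    (MulAut.conj g * δ) gx = gx ∧ (MulAut.conj g * δ) gy = gy ∧
      ((MulAut.conj g * δ) gz = gz ∨ (MulAut.conj g * δ) gz = gz * gs) := by
  obtain ⟨γ, hγ, hγp⟩ := exists_restrict h
  have hs : γ mS = mS := prH_inj (by rw [hγp, prH_mS, h])
  obtain ⟨q, hq⟩ := exists_mod_centre hγ hs
  let γ' : Mh →* Mh := (MulAut.conj q⁻¹).toMonoidHom.comp γ
  have hγ' : ∀ m, γ' m = q⁻¹ * γ m * q := fun m => by
    show q⁻¹ * γ m * q⁻¹⁻¹ = _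
    rw [inv_inv]
  have hN : DH.N ≤ MonoidHom.eqLocus γ' (MonoidHom.id Mh) := by
    rw [← DH.perfect, Subgroup.commutator_le]
    intro u _ v _
    show γ' ⁅u, v⁆ = ⁅u, v⁆
    rw [map_commutatorElement, hγ', hγ']
    have h1 : ∀ w, Commute (1 : Mh) w := fun w => Commute.one_left w
    rcases hq u with eu | eu <;> rcases hq v with ev | ev <;> rw [eu, ev]
    · simpa using comm_central (u := u) (v := v) h1 mS_central
    · simpa using comm_central (u := u) (v := v) mS_central h1
    · exact comm_central mS_central mS_central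
  have key : ∀ m, (MulAut.conj (prH q)⁻¹ * δ) (prH m) = prH (γ' m) := fun m => by
    show (prH q)⁻¹ * δ (prH m) * (prH q)⁻¹⁻¹ = _
    rw [← hγp, hγ', inv_inv, map_mul, map_mul, map_inv]
  refine ⟨(prH q)⁻¹, ?_, ?_, ?_⟩
  · exact (key (mA gx gy gz)).trans (congrArg prH (hN DH.mem_a))
  · exact (key (mB gx gy gz)).trans (congrArg prH (hN DH.mem_b))
  · rcases hq (mC gx gy gz) with e | e
    · exact Or.inl ((key (mC gx gy gz)).trans (congrArg prH ((hγ' _).trans e)))
    · exact Or.inr ((key (mC gx gy gz)).trans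
        ((congrArg prH ((hγ' _).trans e)).trans (map_mul prH _ _)))

end CfsgLib.HNOut
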