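import Cfsg.Prelude.Def_KGroupFacts
import Cfsg.Agent.Lib.HNOut.Restrict

/-!
# The outer automorphism group of the presented Harada–Norton group

Fixing x and y, an automorphism sends t to one of its powers. The automorphism fixing x, y, sending
z to zx² and t to t² is outer, and together with the inner ones it gives all automorphisms.
-/

set_option autoImplicit false
set_option maxRecDepth 100000
set_option linter.style.haveILetI false

namespace CfsgLib.HNOut

open CfsgLib.Golay CfsgLib.HNxyz CfsgLib.HNIndex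
open Cfsg.Spor (HN)

theorem gt_ne : gt ≠ 1 := fun h => gt_ne_fix (by rw [h, one_smul])

theorem gs_comm_gz : Commute gs gz := gs_comm (Subgroup.subset_closure (Or.inr (Or.inr rfl)))

theorem gs_comm_gx : Commute gs gx := gs_comm (Subgroup.subset_closure (Or.inl rfl))

theorem gs_comm_gy : Commute gs gy := gs_comm (Subgroup.subset_closure (Or.inr (Or.inl rfl)))

theorem gs_gt_pow : ∀ n : ℕ, gs * gt ^ n = (gt ^ n)⁻¹ * gs
  | 0 => by simp
  | n + 1 => by
    rw [pow_succ, ← mul_assoc, gs_gt_pow n, mul_assoc, gs_gt, mul_inv_rev, ← mul_assoc]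
    congr 1
    rw [← mul_inv_rev, ← mul_inv_rev, ← pow_succ, ← pow_succ']

theorem gz_sq : gz * gz = 1 := z_sq hn_xyz

theorem zt_three : (gz * gt) ^ 3 = 1 := hnCtx.zt_three

/-- An element commuting with y and its conjugate by x in the subgroup is central. -/
theorem u_cent {g : Gp} (hg : g ∈ hnSub) (hy : g * gy = gy * g)
    (hv : g * (gx⁻¹ * gy * gx) = gx⁻¹ * gy * gx * g) : g = 1 ∨ g = gs := by
  obtain ⟨m, rfl⟩ := exists_pre hg
  have e1 : Commute m (mB gx gy gz) := prH_inj (by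
    rw [map_mul prH m, map_mul prH (mB gx gy gz)]; exact hy)
  have e2 : Commute m ((mA gx gy gz)⁻¹ * mB gx gy gz * mA gx gy gz) := prH_inj (by
    rw [map_mul prH m, map_mul prH _ m, map_mul prH, map_mul prH, map_inv prH]
    exact hv)
  have h1 : phH m = 1 := by
    refine u_centraliser (e1.map phH).eq ?_
    have := (e2.map phH).eq
    rw [map_mul phH _ (mA gx gy gz), map_mul phH _ (mB gx gy gz), map_inv phH] at this
    exact this
  rcases phH_ker h1 with h | h <;> rw [h]
  · exact Or.inl (map_one _)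
  · exact Or.inr prH_mS

/-- The image of t is a power of t. -/
theorem t_image {δ : MulAut Gp} (hx : δ gx = gx) (hy : δ gy = gy) :
    ∃ i < 5, i ≠ 0 ∧ δ gt = gt ^ i := by
  have cy : Commute (δ gt) gy := by
    have := tb.map δ.toMonoidHom
    rwa [show δ.toMonoidHom gy = gy from hy] at this
  have cv : Commute (δ gt) (gx⁻¹ * gy * gx) := by
    have := tab.map δ.toMonoidHom
    rwa [show δ.toMonoidHom (gx⁻¹ * gy * gx) = gx⁻¹ * gy * gx from by
      show δ (gx⁻¹ * gy * gx) = _
      rw [map_mul, map_mul, map_inv, hx, hy]] at this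
  have hym : gy ∈ hnSub := Subgroup.subset_closure (Or.inr (Or.inl rfl))
  have hxm : gx ∈ hnSub := Subgroup.subset_closure (Or.inl rfl)
  obtain ⟨i, hi, hq⟩ := u_fix (q := δ gt • p0)
    (by rw [← mul_smul, ← cy.eq, mul_smul, smul_p0.2 hym])
    (by rw [← mul_smul, ← cv.eq, mul_smul, smul_p0.2 (mul_mem (mul_mem (inv_mem hxm) hym) hxm)])
  have hmem : (gt ^ i)⁻¹ * δ gt ∈ hnSub :=
    smul_p0.1 (by rw [mul_smul, inv_smul_eq_iff]; exact hq)
  have h5 : δ gt ^ 5 = 1 := by rw [← map_pow, t_six, map_one]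
  have hne : δ gt ≠ 1 := fun e => gt_ne (δ.injective (e.trans (map_one δ).symm))
  have hgt : δ gt = gt ^ i := by
    rcases u_cent hmem
      (((tb.pow_left i).inv_left).mul_left cy).eq
      (((tab.pow_left i).inv_left).mul_left cv).eq with h | h
    · exact (inv_mul_eq_one.1 h).symm
    · exfalso
      have e := inv_mul_eq_iff_eq_mul.1 h
      have h2 : δ gt ^ 2 = 1 := by
        rw [e, pow_two, mul_assoc, ← mul_assoc gs, gs_gt_pow, mul_assoc, gs_sq, mul_one, mul_inv_cancel]
      refine hne ?_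
      calc δ gt = δ gt ^ 5 * ((δ gt ^ 2) ^ 2)⁻¹ := by group
        _ = 1 := by rw [h5, h2]; group
  exact ⟨i, hi, fun e => hne (by rw [hgt, e, pow_zero]), hgt⟩

theorem x_z : gx * gz * gx⁻¹ = gz * gs := by
  have h : gz * gx * gz * gx = 1 := by
    have := hn_xyz [4, 0, 4, 0] (by decide)
    simpa [evalW, elt, mul_assoc] using this
  have hz : gz⁻¹ = gz := inv_eq_of_mul_eq_one_right gz_sq
  have h4 : gx⁻¹ * gx⁻¹ = gs := by rw [← mul_inv_rev]; exact gs_inv
  calc gx * gz * gx⁻¹ = gz⁻¹ * (gz * gx * gz * gx) * gx⁻¹ * gx⁻¹ := by group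
    _ = gz * gs := by rw [h, hz, mul_one, mul_assoc, h4]

/-- The twisted generators satisfy the last relation. -/
theorem twist_three : (gz * gs * gt ^ 2) ^ 3 = 1 := by
  have hA : gt ^ 2 = gx⁻¹ * gt⁻¹ * gx := by
    calc gt ^ 2 = ((gt ^ 2)⁻¹)⁻¹ := (inv_inv _).symm
      _ = gx⁻¹ * gt⁻¹ * gx := by rw [← conj_inv]; group
  have hs2 := gs_gt_pow 2
  set A := gt ^ 2
  have sz : gs * gz = gz * gs := gs_comm_gz.eq
  have sA : gs * A⁻¹ = A * gs := by
    calc gs * A⁻¹ = A * (A⁻¹ * gs) * A⁻¹ := by group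
      _ = A * (gs * A) * A⁻¹ := by rw [hs2]
      _ = A * gs := by group
  have e0 : gz * gs * A = gz * A⁻¹ * gs := by rw [mul_assoc, hs2, mul_assoc]
  have st : gs * gt⁻¹ = gt * gs := by
    calc gs * gt⁻¹ = gt * (gt⁻¹ * gs) * gt⁻¹ := by group
      _ = gt * (gs * gt) * gt⁻¹ := by rw [gs_gt]
      _ = gt * gs := by group
  have hz : gz * gx⁻¹ * gz = gx := by
    have hxz : gx * gz = gz * gs * gx := mul_inv_eq_iff_eq_mul.1 x_z
    calc gz * gx⁻¹ * gz = gz * (gs * gx) * gz := by
          rw [show gx⁻¹ = gs * gx from by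
            refine inv_eq_of_mul_eq_one_right ?_
            rw [← mul_assoc, ← gs_comm_gx.eq, mul_assoc, gs_sq]]
      _ = gz * gs * (gx * gz) := by group
      _ = gz * (gs * gz) * gs * gx := by rw [hxz]; group
      _ = (gz * gz) * (gs * gs) * gx := by rw [sz]; group
      _ = gx := by rw [gz_sq, gs_sq, one_mul, one_mul]
  have tz : gt * gz * gt * gz * gt = gz := by
    have h := zt_three
    calc gt * gz * gt * gz * gt = gz⁻¹ * (gz * gt) ^ 3 := by
          simp only [pow_succ, pow_zero, one_mul]; group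
      _ = gz := by rw [h, mul_one, inv_eq_of_mul_eq_one_right gz_sq]
  calc (gz * gs * A) ^ 3 = gz * A⁻¹ * gs * (gz * A⁻¹ * gs) * (gz * A⁻¹ * gs) := by
        rw [e0]; simp only [pow_succ, pow_zero, one_mul]
    _ = gz * A⁻¹ * (gs * gz) * A⁻¹ * (gs * gz) * A⁻¹ * gs := by group
    _ = gz * A⁻¹ * gz * (gs * A⁻¹) * gz * (gs * A⁻¹) * gs := by rw [sz]; group
    _ = gz * A⁻¹ * gz * A * (gs * gz) * A * (gs * gs) := by rw [sA]; group
    _ = gz * A⁻¹ * gz * A * gz * (gs * A) := by rw [sz, gs_sq, mul_one]; group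
    _ = gz * A⁻¹ * gz * A * gz * A⁻¹ * gs := by rw [hs2]; group
    _ = gz * gx⁻¹ * gt * (gx * gz * gx⁻¹) * gt⁻¹ * (gx * gz * gx⁻¹) * gt * gx * gs := by
        rw [hA]; group
    _ = gz * gx⁻¹ * gt * gz * (gs * gt⁻¹) * gz * gs * gt * gx * gs := by rw [x_z]; group
    _ = gz * gx⁻¹ * gt * gz * gt * (gs * gz) * gs * gt * gx * gs := by rw [st]; group
    _ = gz * gx⁻¹ * gt * gz * gt * gz * (gs * gs) * gt * gx * gs := by rw [sz]; group
    _ = gz * gx⁻¹ * (gt * gz * gt * gz * gt) * gx * gs := by rw [gs_sq]; group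
    _ = gs * gs := by rw [tz, hz]
    _ = 1 := gs_sq

/-- The image of a generator under the outer automorphism. -/
def twist : HN.Gen → Gp
  | .x => gx
  | .y => gy
  | .z => gz * gs
  | .t => gt ^ 2

theorem evalW_twist {M : Type*} [Group M] (a b c s : M) (ha : Commute s a) (hb : Commute s b)
    (hc : Commute s c) (hs : s * s = 1) : ∀ w : List ℕ,
    evalW (elt a b (c * s)) w =
      evalW (elt a b c) w * s ^ (w.countP fun g => Nat.beq g 4 || Nat.beq g 5)
  | [] => by simp [evalW_nil]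
  | g :: w => by
    have hsi : s⁻¹ = s := inv_eq_of_mul_eq_one_right hs
    have call : ∀ i, Commute s (elt a b c i) := by
      intro i
      rcases i with _ | _ | _ | _ | _ | _ | i <;>
        simp only [elt] <;> first | assumption | exact Commute.one_right _ | skip
      exacts [ha.inv_right, hb.inv_right, hc.inv_right]
    have hw : Commute s (evalW (elt a b c) w) := by
      refine Commute.list_prod_right _ _ fun x hx => ?_
      obtain ⟨i, -, rfl⟩ := List.mem_map.1 hx
      exact call i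
    rw [evalW_cons, evalW_cons, evalW_twist a b c s ha hb hc hs w, List.countP_cons]
    rcases g with _ | _ | _ | _ | _ | _ | g <;> simp only [elt]
    · simp [mul_assoc]
    · simp [mul_assoc]
    · simp [mul_assoc]
    · simp [mul_assoc]
    · simp only [Nat.beq_refl, Bool.true_or, if_true, pow_succ', mul_assoc]
      rw [← mul_assoc s, hw.eq, mul_assoc]
    · simp only [show Nat.beq (0 + 1 + 1 + 1 + 1 + 1) 4 = false from rfl, Nat.beq_refl, Bool.false_or,
        if_true, pow_succ', mul_inv_rev, hsi]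
      rw [← hc.inv_right.eq.symm, mul_assoc, mul_assoc, ← mul_assoc s, hw.eq, mul_assoc]
    · simp [mul_assoc]

theorem parity : (xyzRels.all fun w => Nat.beq ((w.countP fun g => Nat.beq g 4 || Nat.beq g 5) % 2) 0) =
    true := by decide

theorem twist_xyz : XYZRels gx gy (gz * gs) := by
  intro w hw
  rw [evalW_twist _ _ _ _ gs_comm_gx gs_comm_gy gs_comm_gz gs_sq w, hn_xyz w hw, one_mul]
  have h := Nat.eq_of_beq_eq_true (List.all_eq_true.1 parity w hw)
  obtain ⟨k, hk⟩ := Nat.dvd_of_mod_eq_zero h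
  rw [hk, pow_mul, pow_two, gs_sq, one_pow]

theorem twist_word (L : List (HN.Gen × Bool)) (hL : ∀ g ∈ L.map sylLetter, g < 6) :
    FreeGroup.lift twist (FreeGroup.mk L) = evalW (elt gx gy (gz * gs)) (L.map sylLetter) := by
  induction L with
  | nil => rw [← FreeGroup.one_eq_mk, map_one]; rfl
  | cons p L ih =>
    obtain ⟨x, s⟩ := p
    rw [show FreeGroup.mk ((x, s) :: L) = FreeGroup.mk [(x, s)] * FreeGroup.mk L from rfl, map_mul,
      ih (fun g hg => hL g (List.mem_cons_of_mem _ hg)), List.map_cons, evalW_cons]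
    congr 1
    have hlt := hL (sylLetter (x, s)) List.mem_cons_self
    cases s
    · rw [show FreeGroup.mk [(x, false)] = (FreeGroup.of x)⁻¹ from rfl, map_inv,
        FreeGroup.lift_apply_of]
      cases x <;> first | rfl | simp [sylLetter, genLetter, invLetter] at hlt
    · rw [show FreeGroup.mk [(x, true)] = FreeGroup.of x from rfl, FreeGroup.lift_apply_of]
      cases x <;> first | rfl | simp [sylLetter, genLetter] at hlt

theorem extra_split : HN.extra = HN.extra.take 10 ++ [HN.t ^ 5, (HN.x⁻¹ * HN.t * HN.x) * (HN.t ^ 2),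
    HN.t⁻¹ * HN.y⁻¹ * HN.t * HN.y, (HN.z * HN.t) ^ 3] := rfl

theorem twist_rels : ∀ r ∈ hnRels, FreeGroup.lift twist r = 1 := by
  rintro r (⟨x, hx, -⟩ | hr)
  · exact absurd hx (by simp [Cfsg.Spor.coxNodes, HN.edges])
  rw [Set.mem_setOf_eq, extra_split, List.mem_append] at hr
  rcases hr with hr | hr
  · have hmem : r.toWord.map sylLetter ∈ xyzRels := by
      rw [← hn_words.1]
      exact List.mem_map.2 ⟨r, hr, rfl⟩
    have hlt : ∀ g ∈ r.toWord.map sylLetter, g < 6 := by
      have hall : (xyzRels.all fun v => v.all fun g => Nat.blt g 6) = true := by decide +kernel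
      intro g hg
      exact Nat.ble_eq.mp (List.all_eq_true.1 (List.all_eq_true.1 hall _ hmem) g hg)
    rw [← FreeGroup.mk_toWord (x := r), twist_word r.toWord hlt]
    exact twist_xyz _ hmem
  · simp only [List.mem_cons, List.not_mem_nil, or_false] at hr
    rcases hr with rfl | rfl | rfl | rfl <;>
      simp only [HN.x, HN.y, HN.z, HN.t, map_mul, map_inv, map_pow, FreeGroup.lift_apply_of, twist]
    · rw [← pow_mul, mul_comm, pow_mul, t_six, one_pow]
    · rw [t_sq_of, ← pow_mul, ← pow_succ']; exact t_six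
    · rw [(tb.pow_left 2).inv_right.inv_left.eq]; group
    · exact twist_three

/-- The endomorphism given by the twisted generators. -/
def twistHom : Gp →* Gp := PresentedGroup.toGroup twist_rels

theorem twistHom_of (i : HN.Gen) : twistHom (hnGen i) = twist i := PresentedGroup.toGroup.of _

theorem gens_mem {S : Subgroup Gp} (h : ∀ i, hnGen i ∈ S) : S = ⊤ := by
  rw [eq_top_iff, ← hn_gen, Subgroup.closure_le]
  rintro g (rfl | rfl | rfl | rfl) <;> exact h _

theorem twistHom_bijective : Function.Bijective twistHom := by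
  haveI := hn_finite
  have hsur : Function.Surjective twistHom := by
    rw [← MonoidHom.range_eq_top]
    refine gens_mem fun i => ?_
    have hx : gx ∈ twistHom.range := ⟨gx, twistHom_of .x⟩
    cases i
    · exact hx
    · exact ⟨gy, twistHom_of .y⟩
    · exact ⟨gz * gs, by rw [map_mul, map_mul, twistHom_of, twistHom_of]; show gz * gs * gs = _; rw [mul_assoc, gs_sq, mul_one]⟩
    · refine ⟨gt ^ 3, ?_⟩
      rw [map_pow, twistHom_of]
      show (gt ^ 2) ^ 3 = gt
      rw [← pow_mul, show 2 * 3 = 5 + 1 from rfl, pow_succ, t_six, one_mul]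
  exact ⟨Finite.injective_iff_surjective.2 hsur, hsur⟩

/-- The outer automorphism. -/
noncomputable def alpha : MulAut Gp := MulEquiv.ofBijective twistHom twistHom_bijective

theorem alpha_eval : alpha gx = gx ∧ alpha gy = gy ∧ alpha gz = gz * gs ∧ alpha gt = gt ^ 2 :=
  ⟨twistHom_of .x, twistHom_of .y, twistHom_of .z, twistHom_of .t⟩

theorem alpha_outer (g : Gp) : MulAut.conj g ≠ alpha := by
  intro h
  obtain ⟨ax, ay, az, -⟩ := alpha_eval
  rw [← h, MulAut.conj_apply, mul_inv_eq_iff_eq_mul] at ax ay az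
  have hgs : g * gs = gs * g := (show Commute g gs from (show Commute g gx from ax).mul_right ax).eq
  have hv : g * (gx⁻¹ * gy * gx) = gx⁻¹ * gy * gx * g :=
    (((show Commute g gx from ax).inv_right).mul_right ay |>.mul_right ax).eq
  rcases u_cent (gs_centraliser hgs) ay hv with rfl | rfl
  · rw [one_mul, mul_one, eq_comm] at az
    exact gs_ne (mul_eq_left.1 az)
  · rw [mul_assoc gz, gs_sq, mul_one, gs_comm_gz.eq] at az
    exact gs_ne (mul_eq_left.1 az)

theorem ext_four {δ ε : MulAut Gp} (h : ∀ i, δ (hnGen i) = ε (hnGen i)) : δ = ε := by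
  have e : δ.toMonoidHom = ε.toMonoidHom := PresentedGroup.ext h
  exact MulEquiv.ext fun g => DFunLike.congr_fun e g

theorem square_excluded : (gz * gt ^ 2) ^ 3 ≠ 1 := by
  intro h
  have hu := twist_three
  have hzi : gz⁻¹ = gz := inv_eq_of_mul_eq_one_right gz_sq
  have sz : gs * gz = gz * gs := gs_comm_gz.eq
  have hs2 := gs_gt_pow 2
  have hn : (gz * (gt ^ 2)⁻¹) ^ 3 = 1 := by
    have e : gs * (gz * gt ^ 2) * gs⁻¹ = gz * (gt ^ 2)⁻¹ := by
      rw [← mul_assoc, sz, mul_assoc gz, hs2, ← mul_assoc, mul_inv_cancel_right]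
    rw [← e, conj_pow, h, mul_one, mul_inv_cancel]
  have h4 := gs_gt_pow 4
  set A := gt ^ 2 with hA
  have sA : gs * A⁻¹ = A * gs := by
    calc gs * A⁻¹ = A * (A⁻¹ * gs) * A⁻¹ := by group
      _ = A * (gs * A) * A⁻¹ := by rw [hs2]
      _ = A * gs := by group
  have e1 : gz * A⁻¹ * gz = A * gz * A := by
    calc gz * A⁻¹ * gz = (gz * A⁻¹) ^ 3 * A * gz⁻¹ * A := by
          simp only [pow_succ, pow_zero, one_mul]; group
      _ = A * gz * A := by rw [hn, one_mul, hzi]
  have e2 : gz * A⁻¹ * gz * A * gz * A⁻¹ * gs = 1 := by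
    rw [← hu]
    symm
    calc (gz * gs * A) ^ 3 = gz * A⁻¹ * gs * (gz * A⁻¹ * gs) * (gz * A⁻¹ * gs) := by
          rw [mul_assoc gz, hs2, ← mul_assoc]; simp only [pow_succ, pow_zero, one_mul]
      _ = gz * A⁻¹ * (gs * gz) * A⁻¹ * (gs * gz) * A⁻¹ * gs := by group
      _ = gz * A⁻¹ * gz * (gs * A⁻¹) * gz * (gs * A⁻¹) * gs := by rw [sz]; group
      _ = gz * A⁻¹ * gz * A * (gs * gz) * A * (gs * gs) := by rw [sA]; group
      _ = gz * A⁻¹ * gz * A * gz * (gs * A) := by rw [sz, gs_sq, mul_one]; group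
      _ = gz * A⁻¹ * gz * A * gz * A⁻¹ * gs := by rw [hs2]; group
  have e3 : gz * gt ^ 4 * gz = gs * gt ^ 4 := by
    have e4 : gt ^ 4 = A * A := by rw [hA, ← pow_add]
    have e5 : A * (gz * (A * A) * gz) * A⁻¹ * gs = 1 := by
      calc A * (gz * (A * A) * gz) * A⁻¹ * gs = (A * gz * A) * A * gz * A⁻¹ * gs := by group
        _ = 1 := by rw [← e1, e2]
    have e6 : gz * (A * A) * gz = A⁻¹ * gs * A := by
      calc gz * (A * A) * gz = A⁻¹ * (A * (gz * (A * A) * gz) * A⁻¹ * gs) * gs⁻¹ * A := by group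
        _ = A⁻¹ * gs * A := by rw [e5, mul_one, gs_inv]
    rw [e4, e6, ← hs2, mul_assoc]
  have h8 : (gt ^ 4) ^ 2 = 1 := by
    have e7 : (gs * gt ^ 4) ^ 2 = 1 := by
      calc (gs * gt ^ 4) ^ 2 = (gs * gt ^ 4) * ((gt ^ 4)⁻¹ * gs) := by
            rw [pow_two, ← h4]
        _ = gs * gs := by group
        _ = 1 := gs_sq
    calc (gt ^ 4) ^ 2 = gz⁻¹ * (gz * gt ^ 4 * gz) * (gz⁻¹ * gz⁻¹) * (gz * gt ^ 4 * gz) * gz⁻¹ := by group
      _ = gz⁻¹ * (gs * gt ^ 4) ^ 2 * gz⁻¹ := by
          rw [e3, show gz⁻¹ * gz⁻¹ = 1 from by rw [hzi, gz_sq], pow_two]; group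
      _ = 1 := by rw [e7, mul_one, hzi, gz_sq]
  refine gt_ne ?_
  calc gt = (gt ^ 5) ^ 5 * ((gt ^ 4) ^ 2)⁻¹ * ((gt ^ 4) ^ 2)⁻¹ * ((gt ^ 4) ^ 2)⁻¹ := by group
    _ = 1 := by rw [t_six, h8]; group

/-- An automorphism fixing x, y and z is inner. -/
theorem inner_of_fix {δ : MulAut Gp} (hx : δ gx = gx) (hy : δ gy = gy) (hz : δ gz = gz) :
    ∃ g : Gp, δ = MulAut.conj g := by
  obtain ⟨i, hi, hi0, ht⟩ := t_image hx hy
  have hrel : (gz * gt ^ i) ^ 3 = 1 := by
    rw [← ht]
    conv_lhs => rw [← hz]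
    rw [← map_mul, ← map_pow, zt_three, map_one]
  have hconj : ∀ n, gs * gt ^ n * gs⁻¹ = (gt ^ n)⁻¹ := fun n => by
    rw [gs_gt_pow, mul_inv_cancel_right]
  have hcz : gs * gz * gs⁻¹ = gz := by rw [gs_comm_gz.eq, mul_inv_cancel_right]
  interval_cases i
  · exact absurd rfl hi0
  · refine ⟨1, ext_four fun j => ?_⟩
    rw [map_one, MulAut.one_apply]
    cases j
    exacts [hx, hy, hz, ht.trans (pow_one _)]
  · exact absurd hrel square_excluded
  · refine absurd ?_ square_excluded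
    have e : gs * (gz * gt ^ 3) * gs⁻¹ = gz * gt ^ 2 := by
      calc gs * (gz * gt ^ 3) * gs⁻¹ = (gs * gz * gs⁻¹) * (gs * gt ^ 3 * gs⁻¹) := by group
        _ = gz * gt ^ 2 := by
          rw [hcz, hconj]
          congr 1
          calc (gt ^ 3)⁻¹ = (gt ^ 3)⁻¹ * gt ^ 5 := by rw [t_six, mul_one]
            _ = gt ^ 2 := by group
    rw [← e, conj_pow, hrel, mul_one, mul_inv_cancel]
  · refine ⟨gs, ext_four fun j => ?_⟩
    rw [MulAut.conj_apply]
    cases j
    · rw [hx, gs_comm_gx.eq, mul_inv_cancel_right]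
    · rw [hy, gs_comm_gy.eq, mul_inv_cancel_right]
    · rw [hz, hcz]
    · rw [ht, show gs * gt * gs⁻¹ = gt⁻¹ from by simpa using hconj 1]
      calc gt ^ 4 = gt ^ 5 * gt⁻¹ := by group
        _ = gt⁻¹ := by rw [t_six, one_mul]

/-- The outer automorphism group has two elements. -/
theorem card_out : Nat.card (Cfsg.Out Gp) = 2 := by
  classical
  haveI := hn_finite
  refine le_antisymm ?_ (MathieuOut.two_le_card_out alpha alpha_outer)
  refine le_trans (Nat.card_le_card_of_surjective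
    (fun b : Bool => if b then (QuotientGroup.mk alpha : Cfsg.Out Gp) else 1) fun u => ?_) (by simp)
  obtain ⟨δ, rfl⟩ := QuotientGroup.mk_surjective u
  have inn : ∀ g : Gp, (QuotientGroup.mk (MulAut.conj g) : Cfsg.Out Gp) = 1 := fun g =>
    (QuotientGroup.eq_one_iff (N := Cfsg.Inn Gp) (MulAut.conj g)).2 (MonoidHom.mem_range.2 ⟨g, rfl⟩)
  obtain ⟨g, hg⟩ := exists_fix_gs δ
  obtain ⟨h, hx, hy, hz⟩ := exists_normalised hg
  set ε := MulAut.conj h * (MulAut.conj g * δ) with hε
  have hεδ : (QuotientGroup.mk δ : Cfsg.Out Gp) = QuotientGroup.mk ε := by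
    rw [hε, QuotientGroup.mk_mul, QuotientGroup.mk_mul, inn, inn, one_mul, one_mul]
  rcases hz with hz | hz
  · obtain ⟨k, hk⟩ := inner_of_fix hx hy hz
    exact ⟨false, by rw [hεδ, hk, inn]; rfl⟩
  · obtain ⟨ax, ay, az, -⟩ := alpha_eval
    obtain ⟨k, hk⟩ := inner_of_fix (δ := alpha⁻¹ * ε)
      (by rw [MulAut.mul_apply, hx]; exact alpha.injective (by rw [MulAut.apply_inv_self, ax]))
      (by rw [MulAut.mul_apply, hy]; exact alpha.injective (by rw [MulAut.apply_inv_self, ay]))
      (by rw [MulAut.mul_apply, hz]; exact alpha.injective (by rw [MulAut.apply_inv_self, az]))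
    exact ⟨true, by
      rw [hεδ, inv_mul_eq_iff_eq_mul.1 hk, QuotientGroup.mk_mul, inn, mul_one]
      rfl⟩

end CfsgLib.HNOut
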