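import Cfsg.Agent.Lib.HNIndex.IndexEq
import Cfsg.Agent.Lib.HNOut.Graph

/-!
# Points fixed by elements of order eleven and by the stabiliser of a coset

The orbit sizes on the 1539000 cosets are 1, 1408, 354816, 123200, 35200, 2200, 739200, 277200 and
5775. All but the first are divisible by eleven, and only the first two divide 1408.
-/

set_option autoImplicit false
set_option maxRecDepth 100000
set_option linter.style.haveILetI false

namespace CfsgLib.HNOut

open CfsgLib.Golay CfsgLib.HNxyz CfsgLib.HNIndex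

/-- The presented group. -/
abbrev Gp : Type := Cfsg.Spor.HN

/-- The image of x. -/
abbrev gx : Gp := hnGen .x

/-- The image of y. -/
abbrev gy : Gp := hnGen .y

/-- The image of z. -/
abbrev gz : Gp := hnGen .z

/-- The image of t. -/
abbrev gt : Gp := hnGen .t

/-- The central involution of the subgroup. -/
abbrev gs : Gp := gx * gx

/-- The cosets. -/
abbrev Cos : Type := Gp ⧸ hnSub

/-- The group of triples. -/
abbrev Mh : Type := Mg gx gy gz

/-- Its map to the presented group. -/
noncomputable abbrev prH : Mh →* Gp := CfsgLib.HNIndex.pr gx gy gz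

/-- Its permutations of the hundred points. -/
noncomputable abbrev phH : Mh →* Equiv.Perm (Fin 100) := CfsgLib.HNIndex.ph gx gy gz

/-- The data of the group of triples. -/
noncomputable abbrev DH : Data Mh := mData hn_xyz

/-- The central involution. -/
noncomputable abbrev mS : Mh := mA gx gy gz * mA gx gy gz

/-- The first coset. -/
abbrev p0 : Cos := hnCtx.p0

theorem prH_mA : prH (mA gx gy gz) = gx := rfl
theorem prH_mB : prH (mB gx gy gz) = gy := rfl
theorem prH_mC : prH (mC gx gy gz) = gz := rfl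
theorem prH_mS : prH mS = gs := rfl

/-- The elements of the group of triples fixing a coset. -/
noncomputable abbrev stabH (q : Cos) : Subgroup Mh := (MulAction.stabilizer Gp q).comap prH

theorem orbH {p q : Cos} (h : q ∈ orbSet hnCtx p) : ∃ m : Mh, prH m • p = q := h

theorem mem_orbH {p : Cos} (m : Mh) : prH m • p ∈ orbSet hnCtx p := ⟨m, rfl⟩

theorem v_one : vert hnCtx 1 = gt • p0 := vert_one hnCtx

theorem tb : Commute gt gy := hnCtx.tb

theorem tab : Commute gt (gx⁻¹ * gy * gx) := hnCtx.tab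

theorem conj_inv : gx⁻¹ * gt * gx = (gt ^ 2)⁻¹ := hnCtx.conj_inv

theorem gt_gs_gt : gt * gs * gt = gs := hnCtx.t_turn

theorem gt_ne_fix : gt • p0 ≠ p0 := t_not_fix

theorem phH_ker {m : Mh} (h : phH m = 1) : m = 1 ∨ m = mS := by
  obtain ⟨h2, hmem⟩ := DH.ker_eq
  haveI := m_finite (a := gx) (b := gy) (c := gz) hn_xyz
  by_contra hne
  push_neg at hne
  have hm : (⟨m, DH.ker_le_N h⟩ : ↥DH.N) ∈ DH.σ.ker := DH.mem_ker_σ.2 h
  have hs : (⟨mS, DH.ker_le_N hmem⟩ : ↥DH.N) ∈ DH.σ.ker := DH.mem_ker_σ.2 hmem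
  have h3 : ({⟨_, hm⟩, ⟨_, hs⟩, 1} : Set DH.σ.ker).ncard = 3 := by
    rw [Set.ncard_eq_three]
    refine ⟨_, _, _, ?_, ?_, ?_, rfl⟩
    · exact fun e => hne.2 (congrArg (fun u : DH.σ.ker => u.1.1) e)
    · exact fun e => hne.1 (congrArg (fun u : DH.σ.ker => u.1.1) e)
    · exact fun e => DH.sq_ne (congrArg (fun u : DH.σ.ker => u.1.1) e)
  have := Set.ncard_le_card ({⟨_, hm⟩, ⟨_, hs⟩, 1} : Set DH.σ.ker)
  omega

theorem gs_ne : gs ≠ 1 := x_sq_ne

theorem prH_inj : Function.Injective prH := by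
  refine DH.injective prH gs_ne ?_
  rw [eq_bot_iff]
  intro m hm
  rw [Subgroup.mem_bot]
  rcases phH_ker hm.1 with h | h
  · exact h
  · exfalso
    exact gs_ne (by rw [← prH_mS, ← h]; exact hm.2)

theorem prH_range : prH.range = hnSub := by
  rw [MonoidHom.range_eq_map, ← DH.top, MonoidHom.map_closure, Set.image_insert_eq,
    Set.image_insert_eq, Set.image_singleton]
  rfl

theorem prH_mem (m : Mh) : prH m ∈ hnSub := prH_range ▸ ⟨m, rfl⟩

theorem exists_pre {g : Gp} (h : g ∈ hnSub) : ∃ m : Mh, prH m = g := by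
  rw [← prH_range] at h
  exact h

theorem card_hnSub : Nat.card hnSub = 177408000 := by
  rw [← m_card hn_xyz, ← prH_range, ← Nat.card_congr (MonoidHom.ofInjective prH_inj).toEquiv]

theorem card_Gp : Nat.card Gp = 1539000 * 177408000 := by
  rw [← hnSub.index_mul_card, index_eq, card_hnSub]

theorem smul_p0 {g : Gp} : g • p0 = p0 ↔ g ∈ hnSub := by
  show g • ((1 : Gp) : Cos) = ((1 : Gp) : Cos) ↔ _
  rw [MulAction.Quotient.smul_coe, QuotientGroup.eq, smul_eq_mul, mul_one, mul_one, inv_mem_iff]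

theorem gs_comm {g : Gp} (h : g ∈ hnSub) : Commute gs g := by
  have hcen : hnSub ≤ Subgroup.centralizer {gs} := by
    refine (Subgroup.closure_le _).2 ?_
    rintro u (rfl | rfl | rfl) <;>
      rw [SetLike.mem_coe, Subgroup.mem_centralizer_singleton_iff]
    · exact (mul_assoc _ _ _).symm
    · exact (sq_comm_y hn_xyz).symm
    · exact (sq_comm_z hn_xyz).symm
  exact (Subgroup.mem_centralizer_singleton_iff.1 (hcen h)).symm

theorem mS_central (m : Mh) : Commute mS m := by
  refine prH_inj ?_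
  rw [map_mul prH mS m, map_mul prH m mS, prH_mS]
  exact (gs_comm (prH_mem m)).eq

/-- The orbit sizes. -/
def sizes : List ℕ := [1, 1408, 354816, 123200, 35200, 2200, 739200, 277200, 5775]

theorem orb_size {j : ℕ} (hj : j < 9) :
    (orbSet hnCtx (vert hnCtx j)).ncard = sizes.getD j 0 := by
  set C := hnCtx
  have h0 : (orbSet C (vert C 0)).ncard = 1 := by
    refine le_antisymm (orb0 C) ((Set.ncard_pos (orbSet_finite C _)).2 ⟨_, self_mem C _⟩)
  have e01 := balance C t_not_fix (j := 0) (k := 1) (by norm_num) (by norm_num)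
  have e12 := balance C t_not_fix (j := 1) (k := 2) (by norm_num) (by norm_num)
  have e13 := balance C t_not_fix (j := 1) (k := 3) (by norm_num) (by norm_num)
  have e14 := balance C t_not_fix (j := 1) (k := 4) (by norm_num) (by norm_num)
  have e15 := balance C t_not_fix (j := 1) (k := 5) (by norm_num) (by norm_num)
  have e26 := balance C t_not_fix (j := 2) (k := 6) (by norm_num) (by norm_num)
  have e27 := balance C t_not_fix (j := 2) (k := 7) (by norm_num) (by norm_num)
  have e68 := balance C t_not_fix (j := 6) (k := 8) (by norm_num) (by norm_num)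
  simp only [deg, List.getD_cons_succ, List.getD_cons_zero] at e01 e12 e13 e14 e15 e26 e27 e68
  interval_cases j <;> simp only [sizes, List.getD_cons_succ, List.getD_cons_zero] <;> omega

theorem stab_card (q : Cos) :
    (orbSet hnCtx q).ncard * Nat.card (stabH q) = 177408000 := by
  haveI := m_finite (a := gx) (b := gy) (c := gz) hn_xyz
  letI : MulAction Mh Cos := MulAction.compHom Cos prH
  have h := (MulAction.stabilizer Mh q).index_mul_card
  rw [MulAction.index_stabilizer, m_card hn_xyz] at h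
  exact h

theorem trans_cos (q : Cos) : ∃ j < 9, q ∈ orbSet hnCtx (vert hnCtx j) := mem_orb hnCtx hn_gen q

theorem orb_size' {q : Cos} {j : ℕ} (hj : j < 9) (hq : q ∈ orbSet hnCtx (vert hnCtx j)) :
    (orbSet hnCtx q).ncard = sizes.getD j 0 := by
  rw [orbSet_eq hnCtx hq, orb_size hj]

/-- An element of order eleven fixes the first coset only. -/
theorem eleven_fix {m : Mh} (hm : orderOf m = 11) {q : Cos} (h : prH m • q = q) : q = p0 := by
  haveI := m_finite (a := gx) (b := gy) (c := gz) hn_xyz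
  obtain ⟨j, hj, hq⟩ := trans_cos q
  by_cases h0 : j = 0
  · subst h0
    exact orb_zero hnCtx hq
  exfalso
  have hd : 11 ∣ Nat.card (stabH q) := by
    rw [← hm, show orderOf m = orderOf (⟨m, h⟩ : ↥(stabH q)) from Subgroup.orderOf_coe (⟨m, h⟩ : ↥(stabH q))]
    exact orderOf_dvd_natCard _
  have hc := stab_card q
  rw [orb_size' hj hq] at hc
  obtain ⟨c, hc'⟩ := hd
  rw [hc'] at hc
  interval_cases j <;> simp only [sizes, List.getD_cons_succ, List.getD_cons_zero] at hc <;> omega

/-- The stabiliser of the first of the 1408 points. -/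
noncomputable abbrev Uh : Subgroup Mh := fixOf (CfsgLib.HNIndex.rho gx gy gz) [0]

theorem Uh_eq : Uh = Subgroup.closure {mB gx gy gz, (mA gx gy gz)⁻¹ * mB gx gy gz * mA gx gy gz} :=
  fix_zero hn_xyz

theorem Uh_card : Nat.card Uh = 126000 := by
  haveI := m_finite (a := gx) (b := gy) (c := gz) hn_xyz
  letI : MulAction Mh (Fin 1408) := MulAction.compHom _ (CfsgLib.HNIndex.rho gx gy gz)
  haveI : MulAction.IsPretransitive Mh (Fin 1408) := by
    refine ⟨fun i j => ?_⟩
    have hall : ∀ c : Fin 1408, ∃ m : Mh, m • (⟨0, by norm_num⟩ : Fin 1408) = c := by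
      intro c
      obtain ⟨w, hw, hwc⟩ := exists_word c.2
      refine ⟨(mW gx gy gz w)⁻¹, Fin.ext ?_⟩
      show ((CfsgLib.HNIndex.rho gx gy gz (mW gx gy gz w)⁻¹) _).val = _
      rw [map_inv, rho_mW, img_spec hw, hwc]
    obtain ⟨m, rfl⟩ := hall i
    obtain ⟨n, rfl⟩ := hall j
    exact ⟨n * m⁻¹, by rw [smul_smul, inv_mul_cancel_right]⟩
  have h := (MulAction.stabilizer Mh (⟨0, by norm_num⟩ : Fin 1408)).index_mul_card
  rw [MulAction.index_stabilizer_of_transitive, Nat.card_fin, m_card hn_xyz] at h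
  have e : Uh = MulAction.stabilizer Mh (⟨0, by norm_num⟩ : Fin 1408) := by
    ext m
    constructor
    · intro hm
      exact hm ⟨0, by norm_num⟩ List.mem_cons_self
    · intro hm p hp
      rw [List.mem_singleton] at hp
      rw [show p = ⟨0, by norm_num⟩ from Fin.ext hp]
      exact hm
  rw [e]
  omega

theorem four_points : ((List.range 1408).all fun i =>
    !(Nat.beq (img [3] i) i && Nat.beq (img [1, 3, 0] i) i) ||
      ([[], [0], [1], [0, 0]] : List (List ℕ)).any fun w => Nat.beq (img (CfsgLib.HNIndex.invW w) 0) i) = true := by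
  decide +kernel

theorem t_six : gt ^ 5 = 1 := hnCtx.t_five

theorem t_sq_of : gx⁻¹ * gt ^ 2 * gx = gt := hnCtx.conj_sq

theorem gs_gt : gs * gt = gt⁻¹ * gs := by
  have h := gt_gs_gt
  calc gs * gt = gt⁻¹ * (gt * gs * gt) := by group
    _ = gt⁻¹ * gs := by rw [h]

/-- The points fixed by y and its conjugate by x. -/
theorem u_fix {q : Cos} (h1 : gy • q = q) (h2 : (gx⁻¹ * gy * gx) • q = q) :
    ∃ i < 5, q = gt ^ i • p0 := by
  haveI := m_finite (a := gx) (b := gy) (c := gz) hn_xyz
  obtain ⟨j, hj, hq⟩ := trans_cos q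
  by_cases h0 : j = 0
  · subst h0
    exact ⟨0, by norm_num, by rw [pow_zero, one_smul]; exact orb_zero hnCtx hq⟩
  have hU : ∀ {p : Cos}, gy • p = p → (gx⁻¹ * gy * gx) • p = p → Uh ≤ stabH p := by
    intro p e1 e2
    rw [Uh_eq, Subgroup.closure_le]
    rintro m (rfl | rfl)
    exacts [e1, e2]
  have hj1 : j = 1 := by
    have hd := Subgroup.card_dvd_of_le (hU h1 h2)
    rw [Uh_card] at hd
    obtain ⟨c, hc'⟩ := hd
    have hc := stab_card q
    rw [orb_size' hj hq, hc'] at hc
    interval_cases j <;> simp only [sizes, List.getD_cons_succ, List.getD_cons_zero] at hc <;> omega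
  subst hj1
  rw [v_one] at hq
  obtain ⟨m, rfl⟩ := orbH hq
  have hv1 : stabH (gt • p0) = Uh := by
    have hfix : ∀ u ∈ hnSub, Commute gt u → u • gt • p0 = gt • p0 := by
      intro u hu hc
      rw [← mul_smul, ← hc.eq, mul_smul, show u • p0 = p0 from smul_p0.2 hu]
    have hxm : gx ∈ hnSub := Subgroup.subset_closure (Or.inl rfl)
    have hym : gy ∈ hnSub := Subgroup.subset_closure (Or.inr (Or.inl rfl))
    refine (Subgroup.eq_of_le_of_card_ge (hU (hfix _ hym tb) (hfix _ ?_ tab)) ?_).symm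
    · exact mul_mem (mul_mem (inv_mem hxm) hym) hxm
    · have hc := stab_card (vert hnCtx 1)
      rw [orb_size (by norm_num), v_one] at hc
      simp only [sizes, List.getD_cons_succ, List.getD_cons_zero] at hc
      rw [Uh_card]
      omega
  set ρ := CfsgLib.HNIndex.rho gx gy gz with hρ
  set o : Fin 1408 := ⟨0, by norm_num⟩
  have hmove : ∀ u : Mh, prH u • prH m • gt • p0 = prH m • gt • p0 →
      ρ u (ρ m o) = ρ m o := by
    intro u hu
    have hs : m⁻¹ * u * m ∈ stabH (gt • p0) := by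
      show prH (m⁻¹ * u * m) • _ = _
      rw [map_mul, map_mul, map_inv, mul_smul, mul_smul, hu, inv_smul_smul]
    rw [hv1] at hs
    have := hs o List.mem_cons_self
    rw [map_mul, map_mul, map_inv, Equiv.Perm.mul_apply, Equiv.Perm.mul_apply, Equiv.Perm.inv_def,
      Equiv.symm_apply_eq] at this
    exact this
  have e1 := hmove (mB gx gy gz) h1
  have e2 := hmove ((mA gx gy gz)⁻¹ * mB gx gy gz * mA gx gy gz) h2
  have hi := List.all_eq_true.1 four_points (ρ m o).val (List.mem_range.2 (ρ m o).2)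
  have f1 : img [3] (ρ m o).val = (ρ m o).val := by
    have hw : ∀ g ∈ [3], g < 6 := by simp
    rw [← img_spec hw (ρ m o)]
    congr 1
  have f2 : img [1, 3, 0] (ρ m o).val = (ρ m o).val := by
    have hw : ∀ g ∈ [1, 3, 0], g < 6 := by simp
    rw [← img_spec hw (ρ m o)]
    congr 1
  simp only [f1, f2, Bool.or_eq_true, List.any_eq_true] at hi
  rcases hi with hi | ⟨w, hw, hi⟩
  · simp at hi
  have hw6 : ∀ g ∈ w, g < 6 := by
    simp only [List.mem_cons, List.not_mem_nil, or_false] at hw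
    rcases hw with rfl | rfl | rfl | rfl <;> simp
  have hmo : ρ m o = ρ (mW gx gy gz w) o := by
    refine Fin.ext ?_
    rw [← Nat.eq_of_beq_eq_true hi, ← img_spec (CfsgLib.HNIndex.invW_lt hw6) o]
    congr 1
    rw [hρ, rho_mW, CfsgLib.HNIndex.evalW_invW qx qy qz (CfsgLib.HNIndex.invW_lt hw6), inv_inv]
  have hu : (mW gx gy gz w)⁻¹ * m ∈ stabH (gt • p0) := by
    rw [hv1]
    intro p hp
    rw [List.mem_singleton] at hp
    rw [show p = o from Fin.ext hp, map_mul, map_inv, Equiv.Perm.mul_apply, Equiv.Perm.inv_def,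
      Equiv.symm_apply_eq]
    exact hmo
  have hu' : prH ((mW gx gy gz w)⁻¹ * m) • gt • p0 = gt • p0 := hu
  rw [map_mul, map_inv, mul_smul, inv_smul_eq_iff, pr_mW] at hu'
  rw [hu']
  have hx0 : ∀ g ∈ ({gx, gx⁻¹, gs} : Set Gp), g • p0 = p0 := by
    have hxm : gx ∈ hnSub := Subgroup.subset_closure (Or.inl rfl)
    rintro g (rfl | rfl | rfl) <;> refine smul_p0.2 ?_
    exacts [hxm, inv_mem hxm, mul_mem hxm hxm]
  simp only [List.mem_cons, List.not_mem_nil, or_false] at hw
  rcases hw with rfl | rfl | rfl | rfl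
  · exact ⟨1, by norm_num, by simp [evalW_nil]⟩
  · refine ⟨2, by norm_num, ?_⟩
    have e : gt ^ 2 * gx = gx * gt := by
      calc gt ^ 2 * gx = gx * (gx⁻¹ * gt ^ 2 * gx) := by group
        _ = gx * gt := by rw [t_sq_of]
    show evalW (elt gx gy gz) [0] • gt • p0 = gt ^ 2 • p0
    rw [show evalW (elt gx gy gz) [0] = gx from by simp [evalW, elt], ← mul_smul, ← e, mul_smul,
      hx0 gx (Or.inl rfl)]
  · refine ⟨3, by norm_num, ?_⟩
    have e : gt ^ 3 * gx⁻¹ = gx⁻¹ * gt := by
      have h := conj_inv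
      calc gt ^ 3 * gx⁻¹ = gt ^ 5 * (gt ^ 2)⁻¹ * gx⁻¹ := by group
        _ = (gx⁻¹ * gt * gx) * gx⁻¹ := by rw [t_six, one_mul, h]
        _ = gx⁻¹ * gt := by group
    show evalW (elt gx gy gz) [1] • gt • p0 = gt ^ 3 • p0
    rw [show evalW (elt gx gy gz) [1] = gx⁻¹ from by simp [evalW, elt], ← mul_smul, ← e, mul_smul,
      hx0 gx⁻¹ (Or.inr (Or.inl rfl))]
  · refine ⟨4, by norm_num, ?_⟩
    show evalW (elt gx gy gz) [0, 0] • gt • p0 = gt ^ 4 • p0
    rw [show evalW (elt gx gy gz) [0, 0] = gs from by simp [evalW, elt], ← mul_smul, gs_gt, mul_smul,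
      hx0 gs (Or.inr (Or.inr rfl))]
    congr 1
    calc gt⁻¹ = gt ^ 5 * gt⁻¹ := by rw [t_six, one_mul]
      _ = gt ^ 4 := by group

/-- The centraliser of the central involution is the subgroup. -/
theorem gs_centraliser {g : Gp} (h : g * gs = gs * g) : g ∈ hnSub := by
  classical
  haveI := hn_finite
  set S : Subgroup Gp := Subgroup.centralizer {gs}
  have hHS : hnSub ≤ S := fun u hu => Subgroup.mem_centralizer_singleton_iff.2 (gs_comm hu).eq.symm
  have htS : gt ∉ S := by
    intro ht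
    have hc : gt * gs = gs * gt := Subgroup.mem_centralizer_singleton_iff.1 ht
    rw [gs_gt] at hc
    have h2 : gt ^ 2 = 1 := by
      have := mul_right_cancel hc
      rw [pow_two]
      exact mul_eq_one_iff_eq_inv.2 this
    have h1 : gt = 1 := by
      calc gt = gt ^ 5 * (gt ^ 2)⁻¹ * (gt ^ 2)⁻¹ := by group
        _ = 1 := by rw [t_six, h2]; group
    exact gt_ne_fix (by rw [h1, one_smul])
  have hdiag : ∀ u ∈ S, u • p0 = p0 ∨ u • p0 ∈ orbSet hnCtx (vert hnCtx 5) := by
    intro u hu
    obtain ⟨j, hj, hq⟩ := trans_cos (u • p0)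
    by_cases h0 : j = 0
    · subst h0; exact Or.inl (orb_zero hnCtx hq)
    by_cases h5 : j = 5
    · subst h5; exact Or.inr hq
    exfalso
    have hne : (deg.getD j []).getD j 0 ≠ 0 := by
      interval_cases j <;> first | omega | decide
    rw [deg_eq hj hj] at hne
    obtain ⟨c, hc⟩ := Finset.card_ne_zero.1 hne
    rw [Finset.mem_filter, Finset.mem_range] at hc
    have hnb : orbSet hnCtx (nb hnCtx (vert hnCtx j) c) = orbSet hnCtx (vert hnCtx j) := by
      rw [nb_target hnCtx hj hc.1, hc.2]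
    have hv : vert hnCtx j ∈ orbSet hnCtx (u • p0) := by
      rw [orbSet_eq hnCtx hq]; exact self_mem hnCtx _
    have hnq : nb hnCtx (vert hnCtx j) c ∈ orbSet hnCtx (u • p0) := by
      rw [orbSet_eq hnCtx hq, ← hnb]; exact self_mem hnCtx _
    obtain ⟨m1, em1⟩ := orbH hv
    obtain ⟨m2, em2⟩ := orbH hnq
    obtain ⟨k, hk⟩ : ∃ k ∈ hnSub, k = evalW (elt gx gy gz) (tw c) :=
      ⟨_, prH_range ▸ ⟨mW gx gy gz (tw c), pr_mW _⟩, rfl⟩
    have e : k⁻¹ • gt • k • prH m1 • u • p0 = prH m2 • u • p0 := by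
      rw [hk.2]
      exact (congrArg (fun r => (hnCtx.W (tw c))⁻¹ • hnCtx.t • hnCtx.W (tw c) • r) em1).trans em2.symm
    simp only [← mul_smul] at e
    have hmem : (prH m2 * u)⁻¹ * (k⁻¹ * (gt * (k * (prH m1 * u)))) ∈ hnSub := by
      refine smul_p0.1 ?_
      rw [mul_smul, inv_smul_eq_iff]
      exact e
    have hA : prH m2 * u ∈ S := mul_mem (hHS (prH_mem m2)) hu
    have hB : k * (prH m1 * u) ∈ S := mul_mem (hHS hk.1) (mul_mem (hHS (prH_mem m1)) hu)
    have h2 : k⁻¹ * (gt * (k * (prH m1 * u))) ∈ S := by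
      have := mul_mem hA (hHS hmem)
      rwa [mul_inv_cancel_left] at this
    have h3 := mul_mem (mul_mem (hHS hk.1) h2) (inv_mem hB)
    rw [mul_inv_cancel_left, mul_inv_cancel_right] at h3
    exact htS h3
  by_contra hg
  have hgS : g ∈ S := Subgroup.mem_centralizer_singleton_iff.2 h
  have hg5 : g • p0 ∈ orbSet hnCtx (vert hnCtx 5) :=
    (hdiag g hgS).resolve_left fun e => hg (smul_p0.1 e)
  have horb : MulAction.orbit S p0 = {p0} ∪ orbSet hnCtx (vert hnCtx 5) := by
    ext q
    constructor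
    · rintro ⟨u, rfl⟩
      exact (hdiag u.1 u.2)
    · rintro (rfl | hq)
      · exact MulAction.mem_orbit_self _
      · rw [← orbSet_eq hnCtx hg5] at hq
        obtain ⟨m, rfl⟩ := orbH hq
        exact ⟨⟨prH m * g, mul_mem (hHS (prH_mem m)) hgS⟩, mul_smul (prH m) g p0⟩
  have hdisj : p0 ∉ orbSet hnCtx (vert hnCtx 5) := fun e => hg (smul_p0.1 (by
    have e' := orbSet_eq hnCtx e
    rw [← e'] at hg5
    obtain ⟨m, hm⟩ := orbH hg5
    rw [← hm]
    exact smul_p0.2 (prH_mem m)))
  have hn : (MulAction.orbit S p0).ncard = 2201 := by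
    rw [horb, Set.singleton_union, Set.ncard_insert_of_notMem hdisj (orbSet_finite hnCtx _),
      orb_size (by norm_num)]
    rfl
  have hst : MulAction.stabilizer S p0 = hnSub.subgroupOf S := by
    ext u
    exact smul_p0
  have hidx : hnSub.relIndex S = 2201 := by
    rw [Subgroup.relIndex, ← hst, MulAction.index_stabilizer, hn]
  have hmul := Subgroup.relIndex_mul_index hHS
  rw [hidx, index_eq] at hmul
  omega

end CfsgLib.HNOut
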